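import Mathlib
import Cfsg.Agent.UT.Base

/-! Generated by tools/rec: the Sylow 2-subgroup of 2^2.L3(4) inside UT5(2) -/

set_option autoImplicit false
set_option maxRecDepth 100000
set_option linter.unusedVariables false
set_option exponentiation.threshold 100000

namespace Cfsg.Agent.HeS

open Cfsg.Agent.Spor Cfsg.Agent.Rec

universe u

open Cfsg.Agent.Rec.L52

def ex8 : List (List ℕ) :=
  [[6, 6],
   [7, 7],
   [6, 0, 6, 1, 0],
   [6, 1, 6, 1],
   [6, 2, 6, 2],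
   [6, 3, 6, 4, 3],
   [6, 4, 6, 4],
   [6, 5, 6, 5],
   [7, 0, 7, 2, 0],
   [7, 1, 7, 1],
   [7, 2, 7, 2],
   [7, 3, 7, 5, 3],
   [7, 4, 7, 4],
   [7, 5, 7, 5],
   [6, 7, 6, 7]]

def rel8 : List (List ℕ) := relR ++ ex8

noncomputable def t8_rels : LT :=
(.node (.node (.node (.node (.node (.node (.leaf [])
 (.leaf [nat_lit 7,nat_lit 2,nat_lit 7,nat_lit 2])
) (.leaf [nat_lit 1,nat_lit 4,nat_lit 1,nat_lit 4])
) (.node (.leaf [nat_lit 7,nat_lit 7])
 (.leaf [nat_lit 6,nat_lit 0,nat_lit 6,nat_lit 1,nat_lit 0])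
)) (.node (.node (.node (.leaf [nat_lit 3,nat_lit 3])
 (.leaf [nat_lit 6,nat_lit 7,nat_lit 6,nat_lit 7])
) (.leaf [nat_lit 2,nat_lit 5,nat_lit 2,nat_lit 5])
) (.node (.leaf [nat_lit 0,nat_lit 4,nat_lit 0,nat_lit 4])
 (.leaf [nat_lit 6,nat_lit 4,nat_lit 6,nat_lit 4])
))) (.node (.node (.node (.node (.leaf [nat_lit 1,nat_lit 1])
 (.leaf [nat_lit 7,nat_lit 4,nat_lit 7,nat_lit 4])
) (.leaf [nat_lit 2,nat_lit 3,nat_lit 2,nat_lit 3])
) (.node (.leaf [nat_lit 0,nat_lit 2,nat_lit 0,nat_lit 2])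
 (.leaf [nat_lit 6,nat_lit 2,nat_lit 6,nat_lit 2])
)) (.node (.node (.leaf [nat_lit 5,nat_lit 5])
 (.leaf [nat_lit 3,nat_lit 5,nat_lit 3,nat_lit 5])
) (.node (.leaf [nat_lit 1,nat_lit 2,nat_lit 1,nat_lit 2])
 (.leaf [nat_lit 7,nat_lit 0,nat_lit 7,nat_lit 2,nat_lit 0])
)))) (.node (.node (.node (.node (.node (.leaf [nat_lit 0,nat_lit 0])
 (.leaf [nat_lit 7,nat_lit 3,nat_lit 7,nat_lit 5,nat_lit 3])
) (.leaf [nat_lit 1,nat_lit 5,nat_lit 1,nat_lit 5])
) (.node (.leaf [nat_lit 0,nat_lit 1,nat_lit 0,nat_lit 1])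
 (.leaf [nat_lit 6,nat_lit 1,nat_lit 6,nat_lit 1])
)) (.node (.node (.leaf [nat_lit 4,nat_lit 4])
 (.leaf [nat_lit 3,nat_lit 4,nat_lit 3,nat_lit 4])
) (.node (.leaf [nat_lit 0,nat_lit 5,nat_lit 0,nat_lit 5])
 (.leaf [nat_lit 6,nat_lit 5,nat_lit 6,nat_lit 5])
))) (.node (.node (.node (.node (.leaf [nat_lit 2,nat_lit 2])
 (.leaf [nat_lit 7,nat_lit 5,nat_lit 7,nat_lit 5])
) (.leaf [nat_lit 2,nat_lit 4,nat_lit 2,nat_lit 4])
) (.node (.leaf [nat_lit 0,nat_lit 3,nat_lit 0,nat_lit 3])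
 (.leaf [nat_lit 6,nat_lit 3,nat_lit 6,nat_lit 4,nat_lit 3])
)) (.node (.node (.leaf [nat_lit 6,nat_lit 6])
 (.leaf [nat_lit 4,nat_lit 5,nat_lit 4,nat_lit 5])
) (.node (.leaf [nat_lit 1,nat_lit 3,nat_lit 1,nat_lit 3])
 (.leaf [nat_lit 7,nat_lit 1,nat_lit 7,nat_lit 1])
)))))
noncomputable def t8_hws : LT :=
(.leaf [])

noncomputable def t8_inv : ℕ → ℕ := getP (nat_lit 8) (nat_lit 255) (nat_lit 0x706050403020100)

noncomputable def t8_t : BT :=
(.node (.node (.node (.node (.leaf (nat_lit 0x620f1b10508081821c000))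
 (.leaf (nat_lit 0x1ff800ffc007fe003ff0))
) (.leaf (nat_lit 0xa20d1d10489081421c040))
) (.node (.leaf (nat_lit 0x820c9c10448881221c020))
 (.leaf (nat_lit 0xc20e100074c000e008061))
)) (.node (.node (.node (.leaf (nat_lit 0x720c1b90408481021c010))
 (.leaf (nat_lit 0x10388041c0020c000000))
) (.leaf (nat_lit 0xb20d9d904c9481621c050))
) (.node (.leaf (nat_lit 0x920f9c90548c81a21c030))
 (.leaf (nat_lit 0xb88003c0102c6080e2))
)))

noncomputable def t8_rules : LT :=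
(.node (.node (.node (.node (.leaf [nat_lit 24,nat_lit 3,nat_lit 1,nat_lit 0,nat_lit 6,nat_lit 0,nat_lit 1,nat_lit 6])
 (.leaf [nat_lit 32,nat_lit 2,nat_lit 1,nat_lit 2,nat_lit 7,nat_lit 2,nat_lit 7])
) (.node (.leaf [nat_lit 28,nat_lit 2,nat_lit 1,nat_lit 4,nat_lit 6,nat_lit 4,nat_lit 6])
 (.leaf [nat_lit 36,nat_lit 1,nat_lit 1,nat_lit 6,nat_lit 7,nat_lit 6,nat_lit 7])
)) (.node (.node (.leaf [nat_lit 26,nat_lit 2,nat_lit 1,nat_lit 2,nat_lit 6,nat_lit 2,nat_lit 6])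
 (.leaf [nat_lit 34,nat_lit 2,nat_lit 1,nat_lit 4,nat_lit 7,nat_lit 4,nat_lit 7])
) (.leaf [nat_lit 30,nat_lit 3,nat_lit 1,nat_lit 0,nat_lit 7,nat_lit 0,nat_lit 2,nat_lit 7])
)) (.node (.node (.node (.leaf [nat_lit 25,nat_lit 2,nat_lit 1,nat_lit 1,nat_lit 6,nat_lit 1,nat_lit 6])
 (.leaf [nat_lit 33,nat_lit 3,nat_lit 1,nat_lit 3,nat_lit 7,nat_lit 3,nat_lit 5,nat_lit 7])
) (.leaf [nat_lit 29,nat_lit 2,nat_lit 1,nat_lit 5,nat_lit 6,nat_lit 5,nat_lit 6])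
) (.node (.node (.leaf [nat_lit 27,nat_lit 3,nat_lit 1,nat_lit 3,nat_lit 6,nat_lit 3,nat_lit 4,nat_lit 6])
 (.leaf [nat_lit 35,nat_lit 2,nat_lit 1,nat_lit 5,nat_lit 7,nat_lit 5,nat_lit 7])
) (.leaf [nat_lit 31,nat_lit 2,nat_lit 1,nat_lit 1,nat_lit 7,nat_lit 1,nat_lit 7])
)))

noncomputable def t8_subs : LT :=
(.leaf [nat_lit 0,nat_lit 0,nat_lit 0,nat_lit 8])


noncomputable def t8 : TC :=
  ⟨fun x c => Nat.shiftRight (BT.get t8_t x) (Nat.mul (nat_lit 21) c),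
  (nat_lit 4), (nat_lit 15), (nat_lit 16383), (nat_lit 14), (nat_lit 127), (nat_lit 16368), (nat_lit 4), (nat_lit 4), (nat_lit 8), (nat_lit 6), (nat_lit 8), (nat_lit 9), t8_inv, t8_rules, t8_subs⟩

theorem t8_c1 : t8.rules.all (ruleOK t8.m t8.inv t8_rels) = true := by decide +kernel
theorem t8_c2 : t8.subs.all (subOK t8.m t8.inv t8_hws) = true := by decide +kernel
theorem t8_c3 : t8.base = true := by decide +kernel

theorem t8_s0 : t8.slots (nat_lit 0) (nat_lit 4) = true := by decide +kernel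

theorem t8_c4 : t8.Upto t8.N := ((TC.upto_zero t8).step _ t8_s0)
theorem t8_c5 : t8.UptoE t8.N := (TC.uptoE_n t8)
theorem t8_bound {G : Type*} [Group G] {g : ℕ → G} {H : Subgroup G} (hinv : ∀ x < 8, g x * g (t8_inv x) = 1)
    (hrels : ∀ i, evalW g (t8_rels.get i) = 1) (hH : ∀ x < 6, g x ∈ H) (hhws : ∀ i, evalW g (t8_hws.get i) ∈ H) :
    H.relIndex (genLt g 8) ≠ 0 ∧ H.relIndex (genLt g 8) ≤ 4 :=
  TC.relIndex_le (T := t8) hinv hrels hH hhws t8_c1 t8_c2 t8_c3 t8_c4 t8_c5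

theorem t8_bd : Bound.{u} rel8 6 8 4 := fun _ _ _ _ hs hH =>
  t8_bound (hs.hinv (by decide +kernel)) (hs.tree (by decide +kernel)) hH (leaf_nil_mem' _ _ (by decide +kernel))

theorem pres8 : Pres.{u} rel8 8 256 := presR.step t8_bd (by decide +kernel)

noncomputable def P8_t : ST :=
(.node (nat_lit 0x1045041) (.node (nat_lit 0x1043041) (.node (nat_lit 0x1041241) (.node (nat_lit 0x1041141) (.node (nat_lit 0x10410c1) (.node (nat_lit 0x1041051) (.node (nat_lit 0x1041049) (.node (nat_lit 0x1041045) (.leaf (nat_lit 0x1041041) (nat_lit 0))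
 (.leaf (nat_lit 0x1041045) (nat_lit 256))
) (.node (nat_lit 0x104104d) (.leaf (nat_lit 0x1041049) (nat_lit 1026))
 (.leaf (nat_lit 0x104104d) (nat_lit 770))
)) (.node (nat_lit 0x1041059) (.node (nat_lit 0x1041055) (.leaf (nat_lit 0x1041051) (nat_lit 1027))
 (.leaf (nat_lit 0x1041055) (nat_lit 771))
) (.node (nat_lit 0x104105d) (.leaf (nat_lit 0x1041059) (nat_lit 1539))
 (.leaf (nat_lit 0x104105d) (nat_lit 1283))
))) (.node (nat_lit 0x10410d1) (.node (nat_lit 0x10410c9) (.node (nat_lit 0x10410c5) (.leaf (nat_lit 0x10410c1) (nat_lit 257))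
 (.leaf (nat_lit 0x10410c5) (nat_lit 513))
) (.node (nat_lit 0x10410cd) (.leaf (nat_lit 0x10410c9) (nat_lit 1282))
 (.leaf (nat_lit 0x10410cd) (nat_lit 1026))
)) (.node (nat_lit 0x10410d9) (.node (nat_lit 0x10410d5) (.leaf (nat_lit 0x10410d1) (nat_lit 1283))
 (.leaf (nat_lit 0x10410d5) (nat_lit 1027))
) (.node (nat_lit 0x10410dd) (.leaf (nat_lit 0x10410d9) (nat_lit 1795))
 (.leaf (nat_lit 0x10410dd) (nat_lit 1539))
)))) (.node (nat_lit 0x10411c1) (.node (nat_lit 0x1041151) (.node (nat_lit 0x1041149) (.node (nat_lit 0x1041145) (.leaf (nat_lit 0x1041141) (nat_lit 1026))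
 (.leaf (nat_lit 0x1041145) (nat_lit 1282))
) (.node (nat_lit 0x104114d) (.leaf (nat_lit 0x1041149) (nat_lit 1538))
 (.leaf (nat_lit 0x104114d) (nat_lit 1282))
)) (.node (nat_lit 0x1041159) (.node (nat_lit 0x1041155) (.leaf (nat_lit 0x1041151) (nat_lit 2051))
 (.leaf (nat_lit 0x1041155) (nat_lit 1795))
) (.node (nat_lit 0x104115d) (.leaf (nat_lit 0x1041159) (nat_lit 2051))
 (.leaf (nat_lit 0x104115d) (nat_lit 1795))
))) (.node (nat_lit 0x10411d1) (.node (nat_lit 0x10411c9) (.node (nat_lit 0x10411c5) (.leaf (nat_lit 0x10411c1) (nat_lit 770))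
 (.leaf (nat_lit 0x10411c5) (nat_lit 1026))
) (.node (nat_lit 0x10411cd) (.leaf (nat_lit 0x10411c9) (nat_lit 1282))
 (.leaf (nat_lit 0x10411cd) (nat_lit 1026))
)) (.node (nat_lit 0x10411d9) (.node (nat_lit 0x10411d5) (.leaf (nat_lit 0x10411d1) (nat_lit 1795))
 (.leaf (nat_lit 0x10411d5) (nat_lit 1539))
) (.node (nat_lit 0x10411dd) (.leaf (nat_lit 0x10411d9) (nat_lit 1795))
 (.leaf (nat_lit 0x10411dd) (nat_lit 1539))
))))) (.node (nat_lit 0x1041341) (.node (nat_lit 0x10412c1) (.node (nat_lit 0x1041251) (.node (nat_lit 0x1041249) (.node (nat_lit 0x1041245) (.leaf (nat_lit 0x1041241) (nat_lit 1027))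
 (.leaf (nat_lit 0x1041245) (nat_lit 1283))
) (.node (nat_lit 0x104124d) (.leaf (nat_lit 0x1041249) (nat_lit 2051))
 (.leaf (nat_lit 0x104124d) (nat_lit 1795))
)) (.node (nat_lit 0x1041259) (.node (nat_lit 0x1041255) (.leaf (nat_lit 0x1041251) (nat_lit 1539))
 (.leaf (nat_lit 0x1041255) (nat_lit 1283))
) (.node (nat_lit 0x104125d) (.leaf (nat_lit 0x1041259) (nat_lit 2051))
 (.leaf (nat_lit 0x104125d) (nat_lit 1795))
))) (.node (nat_lit 0x10412d1) (.node (nat_lit 0x10412c9) (.node (nat_lit 0x10412c5) (.leaf (nat_lit 0x10412c1) (nat_lit 771))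
 (.leaf (nat_lit 0x10412c5) (nat_lit 1027))
) (.node (nat_lit 0x10412cd) (.leaf (nat_lit 0x10412c9) (nat_lit 1795))
 (.leaf (nat_lit 0x10412cd) (nat_lit 1539))
)) (.node (nat_lit 0x10412d9) (.node (nat_lit 0x10412d5) (.leaf (nat_lit 0x10412d1) (nat_lit 1283))
 (.leaf (nat_lit 0x10412d5) (nat_lit 1027))
) (.node (nat_lit 0x10412dd) (.leaf (nat_lit 0x10412d9) (nat_lit 1795))
 (.leaf (nat_lit 0x10412dd) (nat_lit 1539))
)))) (.node (nat_lit 0x10413c1) (.node (nat_lit 0x1041351) (.node (nat_lit 0x1041349) (.node (nat_lit 0x1041345) (.leaf (nat_lit 0x1041341) (nat_lit 1539))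
 (.leaf (nat_lit 0x1041345) (nat_lit 1795))
) (.node (nat_lit 0x104134d) (.leaf (nat_lit 0x1041349) (nat_lit 2051))
 (.leaf (nat_lit 0x104134d) (nat_lit 1795))
)) (.node (nat_lit 0x1041359) (.node (nat_lit 0x1041355) (.leaf (nat_lit 0x1041351) (nat_lit 2051))
 (.leaf (nat_lit 0x1041355) (nat_lit 1795))
) (.node (nat_lit 0x104135d) (.leaf (nat_lit 0x1041359) (nat_lit 2051))
 (.leaf (nat_lit 0x104135d) (nat_lit 1795))
))) (.node (nat_lit 0x10413d1) (.node (nat_lit 0x10413c9) (.node (nat_lit 0x10413c5) (.leaf (nat_lit 0x10413c1) (nat_lit 1283))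
 (.leaf (nat_lit 0x10413c5) (nat_lit 1539))
) (.node (nat_lit 0x10413cd) (.leaf (nat_lit 0x10413c9) (nat_lit 1795))
 (.leaf (nat_lit 0x10413cd) (nat_lit 1539))
)) (.node (nat_lit 0x10413d9) (.node (nat_lit 0x10413d5) (.leaf (nat_lit 0x10413d1) (nat_lit 1795))
 (.leaf (nat_lit 0x10413d5) (nat_lit 1539))
) (.node (nat_lit 0x10413dd) (.leaf (nat_lit 0x10413d9) (nat_lit 1795))
 (.leaf (nat_lit 0x10413dd) (nat_lit 1539))
)))))) (.node (nat_lit 0x1043241) (.node (nat_lit 0x1043141) (.node (nat_lit 0x10430c1) (.node (nat_lit 0x1043051) (.node (nat_lit 0x1043049) (.node (nat_lit 0x1043045) (.leaf (nat_lit 0x1043041) (nat_lit 258))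
 (.leaf (nat_lit 0x1043045) (nat_lit 514))
) (.node (nat_lit 0x104304d) (.leaf (nat_lit 0x1043049) (nat_lit 768))
 (.leaf (nat_lit 0x104304d) (nat_lit 512))
)) (.node (nat_lit 0x1043059) (.node (nat_lit 0x1043055) (.leaf (nat_lit 0x1043051) (nat_lit 1283))
 (.leaf (nat_lit 0x1043055) (nat_lit 1027))
) (.node (nat_lit 0x104305d) (.leaf (nat_lit 0x1043059) (nat_lit 1283))
 (.leaf (nat_lit 0x104305d) (nat_lit 1027))
))) (.node (nat_lit 0x10430d1) (.node (nat_lit 0x10430c9) (.node (nat_lit 0x10430c5) (.leaf (nat_lit 0x10430c1) (nat_lit 514))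
 (.leaf (nat_lit 0x10430c5) (nat_lit 770))
) (.node (nat_lit 0x10430cd) (.leaf (nat_lit 0x10430c9) (nat_lit 1024))
 (.leaf (nat_lit 0x10430cd) (nat_lit 768))
)) (.node (nat_lit 0x10430d9) (.node (nat_lit 0x10430d5) (.leaf (nat_lit 0x10430d1) (nat_lit 1539))
 (.leaf (nat_lit 0x10430d5) (nat_lit 1283))
) (.node (nat_lit 0x10430dd) (.leaf (nat_lit 0x10430d9) (nat_lit 1539))
 (.leaf (nat_lit 0x10430dd) (nat_lit 1283))
)))) (.node (nat_lit 0x10431c1) (.node (nat_lit 0x1043151) (.node (nat_lit 0x1043149) (.node (nat_lit 0x1043145) (.leaf (nat_lit 0x1043141) (nat_lit 769))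
 (.leaf (nat_lit 0x1043145) (nat_lit 1025))
) (.node (nat_lit 0x104314d) (.leaf (nat_lit 0x1043149) (nat_lit 1281))
 (.leaf (nat_lit 0x104314d) (nat_lit 1025))
)) (.node (nat_lit 0x1043159) (.node (nat_lit 0x1043155) (.leaf (nat_lit 0x1043151) (nat_lit 1793))
 (.leaf (nat_lit 0x1043155) (nat_lit 1537))
) (.node (nat_lit 0x104315d) (.leaf (nat_lit 0x1043159) (nat_lit 1795))
 (.leaf (nat_lit 0x104315d) (nat_lit 1539))
))) (.node (nat_lit 0x10431d1) (.node (nat_lit 0x10431c9) (.node (nat_lit 0x10431c5) (.leaf (nat_lit 0x10431c1) (nat_lit 513))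
 (.leaf (nat_lit 0x10431c5) (nat_lit 769))
) (.node (nat_lit 0x10431cd) (.leaf (nat_lit 0x10431c9) (nat_lit 1025))
 (.leaf (nat_lit 0x10431cd) (nat_lit 769))
)) (.node (nat_lit 0x10431d9) (.node (nat_lit 0x10431d5) (.leaf (nat_lit 0x10431d1) (nat_lit 1537))
 (.leaf (nat_lit 0x10431d5) (nat_lit 1281))
) (.node (nat_lit 0x10431dd) (.leaf (nat_lit 0x10431d9) (nat_lit 1539))
 (.leaf (nat_lit 0x10431dd) (nat_lit 1283))
))))) (.node (nat_lit 0x1043341) (.node (nat_lit 0x10432c1) (.node (nat_lit 0x1043251) (.node (nat_lit 0x1043249) (.node (nat_lit 0x1043245) (.leaf (nat_lit 0x1043241) (nat_lit 1283))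
 (.leaf (nat_lit 0x1043245) (nat_lit 1539))
) (.node (nat_lit 0x104324d) (.leaf (nat_lit 0x1043249) (nat_lit 1792))
 (.leaf (nat_lit 0x104324d) (nat_lit 1536))
)) (.node (nat_lit 0x1043259) (.node (nat_lit 0x1043255) (.leaf (nat_lit 0x1043251) (nat_lit 1795))
 (.leaf (nat_lit 0x1043255) (nat_lit 1539))
) (.node (nat_lit 0x104325d) (.leaf (nat_lit 0x1043259) (nat_lit 1795))
 (.leaf (nat_lit 0x104325d) (nat_lit 1539))
))) (.node (nat_lit 0x10432d1) (.node (nat_lit 0x10432c9) (.node (nat_lit 0x10432c5) (.leaf (nat_lit 0x10432c1) (nat_lit 1027))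
 (.leaf (nat_lit 0x10432c5) (nat_lit 1283))
) (.node (nat_lit 0x10432cd) (.leaf (nat_lit 0x10432c9) (nat_lit 1536))
 (.leaf (nat_lit 0x10432cd) (nat_lit 1280))
)) (.node (nat_lit 0x10432d9) (.node (nat_lit 0x10432d5) (.leaf (nat_lit 0x10432d1) (nat_lit 1539))
 (.leaf (nat_lit 0x10432d5) (nat_lit 1283))
) (.node (nat_lit 0x10432dd) (.leaf (nat_lit 0x10432d9) (nat_lit 1539))
 (.leaf (nat_lit 0x10432dd) (nat_lit 1283))
)))) (.node (nat_lit 0x10433c1) (.node (nat_lit 0x1043351) (.node (nat_lit 0x1043349) (.node (nat_lit 0x1043345) (.leaf (nat_lit 0x1043341) (nat_lit 1283))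
 (.leaf (nat_lit 0x1043345) (nat_lit 1539))
) (.node (nat_lit 0x104334d) (.leaf (nat_lit 0x1043349) (nat_lit 1795))
 (.leaf (nat_lit 0x104334d) (nat_lit 1539))
)) (.node (nat_lit 0x1043359) (.node (nat_lit 0x1043355) (.leaf (nat_lit 0x1043351) (nat_lit 1795))
 (.leaf (nat_lit 0x1043355) (nat_lit 1539))
) (.node (nat_lit 0x104335d) (.leaf (nat_lit 0x1043359) (nat_lit 1795))
 (.leaf (nat_lit 0x104335d) (nat_lit 1539))
))) (.node (nat_lit 0x10433d1) (.node (nat_lit 0x10433c9) (.node (nat_lit 0x10433c5) (.leaf (nat_lit 0x10433c1) (nat_lit 1027))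
 (.leaf (nat_lit 0x10433c5) (nat_lit 1283))
) (.node (nat_lit 0x10433cd) (.leaf (nat_lit 0x10433c9) (nat_lit 1539))
 (.leaf (nat_lit 0x10433cd) (nat_lit 1283))
)) (.node (nat_lit 0x10433d9) (.node (nat_lit 0x10433d5) (.leaf (nat_lit 0x10433d1) (nat_lit 1539))
 (.leaf (nat_lit 0x10433d5) (nat_lit 1283))
) (.node (nat_lit 0x10433dd) (.leaf (nat_lit 0x10433d9) (nat_lit 1539))
 (.leaf (nat_lit 0x10433dd) (nat_lit 1283))
))))))) (.node (nat_lit 0x1047041) (.node (nat_lit 0x1045241) (.node (nat_lit 0x1045141) (.node (nat_lit 0x10450c1) (.node (nat_lit 0x1045051) (.node (nat_lit 0x1045049) (.node (nat_lit 0x1045045) (.leaf (nat_lit 0x1045041) (nat_lit 259))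
 (.leaf (nat_lit 0x1045045) (nat_lit 515))
) (.node (nat_lit 0x104504d) (.leaf (nat_lit 0x1045049) (nat_lit 1283))
 (.leaf (nat_lit 0x104504d) (nat_lit 1027))
)) (.node (nat_lit 0x1045059) (.node (nat_lit 0x1045055) (.leaf (nat_lit 0x1045051) (nat_lit 768))
 (.leaf (nat_lit 0x1045055) (nat_lit 512))
) (.node (nat_lit 0x104505d) (.leaf (nat_lit 0x1045059) (nat_lit 1282))
 (.leaf (nat_lit 0x104505d) (nat_lit 1026))
))) (.node (nat_lit 0x10450d1) (.node (nat_lit 0x10450c9) (.node (nat_lit 0x10450c5) (.leaf (nat_lit 0x10450c1) (nat_lit 515))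
 (.leaf (nat_lit 0x10450c5) (nat_lit 771))
) (.node (nat_lit 0x10450cd) (.leaf (nat_lit 0x10450c9) (nat_lit 1539))
 (.leaf (nat_lit 0x10450cd) (nat_lit 1283))
)) (.node (nat_lit 0x10450d9) (.node (nat_lit 0x10450d5) (.leaf (nat_lit 0x10450d1) (nat_lit 1024))
 (.leaf (nat_lit 0x10450d5) (nat_lit 768))
) (.node (nat_lit 0x10450dd) (.leaf (nat_lit 0x10450d9) (nat_lit 1538))
 (.leaf (nat_lit 0x10450dd) (nat_lit 1282))
)))) (.node (nat_lit 0x10451c1) (.node (nat_lit 0x1045151) (.node (nat_lit 0x1045149) (.node (nat_lit 0x1045145) (.leaf (nat_lit 0x1045141) (nat_lit 1283))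
 (.leaf (nat_lit 0x1045145) (nat_lit 1539))
) (.node (nat_lit 0x104514d) (.leaf (nat_lit 0x1045149) (nat_lit 1795))
 (.leaf (nat_lit 0x104514d) (nat_lit 1539))
)) (.node (nat_lit 0x1045159) (.node (nat_lit 0x1045155) (.leaf (nat_lit 0x1045151) (nat_lit 1792))
 (.leaf (nat_lit 0x1045155) (nat_lit 1536))
) (.node (nat_lit 0x104515d) (.leaf (nat_lit 0x1045159) (nat_lit 1794))
 (.leaf (nat_lit 0x104515d) (nat_lit 1538))
))) (.node (nat_lit 0x10451d1) (.node (nat_lit 0x10451c9) (.node (nat_lit 0x10451c5) (.leaf (nat_lit 0x10451c1) (nat_lit 1027))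
 (.leaf (nat_lit 0x10451c5) (nat_lit 1283))
) (.node (nat_lit 0x10451cd) (.leaf (nat_lit 0x10451c9) (nat_lit 1539))
 (.leaf (nat_lit 0x10451cd) (nat_lit 1283))
)) (.node (nat_lit 0x10451d9) (.node (nat_lit 0x10451d5) (.leaf (nat_lit 0x10451d1) (nat_lit 1536))
 (.leaf (nat_lit 0x10451d5) (nat_lit 1280))
) (.node (nat_lit 0x10451dd) (.leaf (nat_lit 0x10451d9) (nat_lit 1538))
 (.leaf (nat_lit 0x10451dd) (nat_lit 1282))
))))) (.node (nat_lit 0x1045341) (.node (nat_lit 0x10452c1) (.node (nat_lit 0x1045251) (.node (nat_lit 0x1045249) (.node (nat_lit 0x1045245) (.leaf (nat_lit 0x1045241) (nat_lit 769))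
 (.leaf (nat_lit 0x1045245) (nat_lit 1025))
) (.node (nat_lit 0x104524d) (.leaf (nat_lit 0x1045249) (nat_lit 1793))
 (.leaf (nat_lit 0x104524d) (nat_lit 1537))
)) (.node (nat_lit 0x1045259) (.node (nat_lit 0x1045255) (.leaf (nat_lit 0x1045251) (nat_lit 1281))
 (.leaf (nat_lit 0x1045255) (nat_lit 1025))
) (.node (nat_lit 0x104525d) (.leaf (nat_lit 0x1045259) (nat_lit 1793))
 (.leaf (nat_lit 0x104525d) (nat_lit 1537))
))) (.node (nat_lit 0x10452d1) (.node (nat_lit 0x10452c9) (.node (nat_lit 0x10452c5) (.leaf (nat_lit 0x10452c1) (nat_lit 513))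
 (.leaf (nat_lit 0x10452c5) (nat_lit 769))
) (.node (nat_lit 0x10452cd) (.leaf (nat_lit 0x10452c9) (nat_lit 1537))
 (.leaf (nat_lit 0x10452cd) (nat_lit 1281))
)) (.node (nat_lit 0x10452d9) (.node (nat_lit 0x10452d5) (.leaf (nat_lit 0x10452d1) (nat_lit 1025))
 (.leaf (nat_lit 0x10452d5) (nat_lit 769))
) (.node (nat_lit 0x10452dd) (.leaf (nat_lit 0x10452d9) (nat_lit 1537))
 (.leaf (nat_lit 0x10452dd) (nat_lit 1281))
)))) (.node (nat_lit 0x10453c1) (.node (nat_lit 0x1045351) (.node (nat_lit 0x1045349) (.node (nat_lit 0x1045345) (.leaf (nat_lit 0x1045341) (nat_lit 1282))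
 (.leaf (nat_lit 0x1045345) (nat_lit 1538))
) (.node (nat_lit 0x104534d) (.leaf (nat_lit 0x1045349) (nat_lit 1794))
 (.leaf (nat_lit 0x104534d) (nat_lit 1538))
)) (.node (nat_lit 0x1045359) (.node (nat_lit 0x1045355) (.leaf (nat_lit 0x1045351) (nat_lit 1792))
 (.leaf (nat_lit 0x1045355) (nat_lit 1536))
) (.node (nat_lit 0x104535d) (.leaf (nat_lit 0x1045359) (nat_lit 1794))
 (.leaf (nat_lit 0x104535d) (nat_lit 1538))
))) (.node (nat_lit 0x10453d1) (.node (nat_lit 0x10453c9) (.node (nat_lit 0x10453c5) (.leaf (nat_lit 0x10453c1) (nat_lit 1026))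
 (.leaf (nat_lit 0x10453c5) (nat_lit 1282))
) (.node (nat_lit 0x10453cd) (.leaf (nat_lit 0x10453c9) (nat_lit 1538))
 (.leaf (nat_lit 0x10453cd) (nat_lit 1282))
)) (.node (nat_lit 0x10453d9) (.node (nat_lit 0x10453d5) (.leaf (nat_lit 0x10453d1) (nat_lit 1536))
 (.leaf (nat_lit 0x10453d5) (nat_lit 1280))
) (.node (nat_lit 0x10453dd) (.leaf (nat_lit 0x10453d9) (nat_lit 1538))
 (.leaf (nat_lit 0x10453dd) (nat_lit 1282))
)))))) (.node (nat_lit 0x1047241) (.node (nat_lit 0x1047141) (.node (nat_lit 0x10470c1) (.node (nat_lit 0x1047051) (.node (nat_lit 0x1047049) (.node (nat_lit 0x1047045) (.leaf (nat_lit 0x1047041) (nat_lit 515))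
 (.leaf (nat_lit 0x1047045) (nat_lit 771))
) (.node (nat_lit 0x104704d) (.leaf (nat_lit 0x1047049) (nat_lit 1027))
 (.leaf (nat_lit 0x104704d) (nat_lit 771))
)) (.node (nat_lit 0x1047059) (.node (nat_lit 0x1047055) (.leaf (nat_lit 0x1047051) (nat_lit 1026))
 (.leaf (nat_lit 0x1047055) (nat_lit 770))
) (.node (nat_lit 0x104705d) (.leaf (nat_lit 0x1047059) (nat_lit 1024))
 (.leaf (nat_lit 0x104705d) (nat_lit 768))
))) (.node (nat_lit 0x10470d1) (.node (nat_lit 0x10470c9) (.node (nat_lit 0x10470c5) (.leaf (nat_lit 0x10470c1) (nat_lit 771))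
 (.leaf (nat_lit 0x10470c5) (nat_lit 1027))
) (.node (nat_lit 0x10470cd) (.leaf (nat_lit 0x10470c9) (nat_lit 1283))
 (.leaf (nat_lit 0x10470cd) (nat_lit 1027))
)) (.node (nat_lit 0x10470d9) (.node (nat_lit 0x10470d5) (.leaf (nat_lit 0x10470d1) (nat_lit 1282))
 (.leaf (nat_lit 0x10470d5) (nat_lit 1026))
) (.node (nat_lit 0x10470dd) (.leaf (nat_lit 0x10470d9) (nat_lit 1280))
 (.leaf (nat_lit 0x10470dd) (nat_lit 1024))
)))) (.node (nat_lit 0x10471c1) (.node (nat_lit 0x1047151) (.node (nat_lit 0x1047149) (.node (nat_lit 0x1047145) (.leaf (nat_lit 0x1047141) (nat_lit 1027))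
 (.leaf (nat_lit 0x1047145) (nat_lit 1283))
) (.node (nat_lit 0x104714d) (.leaf (nat_lit 0x1047149) (nat_lit 1539))
 (.leaf (nat_lit 0x104714d) (nat_lit 1283))
)) (.node (nat_lit 0x1047159) (.node (nat_lit 0x1047155) (.leaf (nat_lit 0x1047151) (nat_lit 1537))
 (.leaf (nat_lit 0x1047155) (nat_lit 1281))
) (.node (nat_lit 0x104715d) (.leaf (nat_lit 0x1047159) (nat_lit 1536))
 (.leaf (nat_lit 0x104715d) (nat_lit 1280))
))) (.node (nat_lit 0x10471d1) (.node (nat_lit 0x10471c9) (.node (nat_lit 0x10471c5) (.leaf (nat_lit 0x10471c1) (nat_lit 771))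
 (.leaf (nat_lit 0x10471c5) (nat_lit 1027))
) (.node (nat_lit 0x10471cd) (.leaf (nat_lit 0x10471c9) (nat_lit 1283))
 (.leaf (nat_lit 0x10471cd) (nat_lit 1027))
)) (.node (nat_lit 0x10471d9) (.node (nat_lit 0x10471d5) (.leaf (nat_lit 0x10471d1) (nat_lit 1280))
 (.leaf (nat_lit 0x10471d5) (nat_lit 1536))
) (.node (nat_lit 0x10471dd) (.leaf (nat_lit 0x10471d9) (nat_lit 1280))
 (.leaf (nat_lit 0x10471dd) (nat_lit 1024))
))))) (.node (nat_lit 0x1047341) (.node (nat_lit 0x10472c1) (.node (nat_lit 0x1047251) (.node (nat_lit 0x1047249) (.node (nat_lit 0x1047245) (.leaf (nat_lit 0x1047241) (nat_lit 1026))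
 (.leaf (nat_lit 0x1047245) (nat_lit 1282))
) (.node (nat_lit 0x104724d) (.leaf (nat_lit 0x1047249) (nat_lit 1537))
 (.leaf (nat_lit 0x104724d) (nat_lit 1281))
)) (.node (nat_lit 0x1047259) (.node (nat_lit 0x1047255) (.leaf (nat_lit 0x1047251) (nat_lit 1538))
 (.leaf (nat_lit 0x1047255) (nat_lit 1282))
) (.node (nat_lit 0x104725d) (.leaf (nat_lit 0x1047259) (nat_lit 1536))
 (.leaf (nat_lit 0x104725d) (nat_lit 1280))
))) (.node (nat_lit 0x10472d1) (.node (nat_lit 0x10472c9) (.node (nat_lit 0x10472c5) (.leaf (nat_lit 0x10472c1) (nat_lit 770))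
 (.leaf (nat_lit 0x10472c5) (nat_lit 1026))
) (.node (nat_lit 0x10472cd) (.leaf (nat_lit 0x10472c9) (nat_lit 1280))
 (.leaf (nat_lit 0x10472cd) (nat_lit 1536))
)) (.node (nat_lit 0x10472d9) (.node (nat_lit 0x10472d5) (.leaf (nat_lit 0x10472d1) (nat_lit 1282))
 (.leaf (nat_lit 0x10472d5) (nat_lit 1026))
) (.node (nat_lit 0x10472dd) (.leaf (nat_lit 0x10472d9) (nat_lit 1280))
 (.leaf (nat_lit 0x10472dd) (nat_lit 1024))
)))) (.node (nat_lit 0x10473c1) (.node (nat_lit 0x1047351) (.node (nat_lit 0x1047349) (.node (nat_lit 0x1047345) (.leaf (nat_lit 0x1047341) (nat_lit 1025))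
 (.leaf (nat_lit 0x1047345) (nat_lit 1281))
) (.node (nat_lit 0x104734d) (.leaf (nat_lit 0x1047349) (nat_lit 1537))
 (.leaf (nat_lit 0x104734d) (nat_lit 1281))
)) (.node (nat_lit 0x1047359) (.node (nat_lit 0x1047355) (.leaf (nat_lit 0x1047351) (nat_lit 1537))
 (.leaf (nat_lit 0x1047355) (nat_lit 1281))
) (.node (nat_lit 0x104735d) (.leaf (nat_lit 0x1047359) (nat_lit 1537))
 (.leaf (nat_lit 0x104735d) (nat_lit 1281))
))) (.node (nat_lit 0x10473d1) (.node (nat_lit 0x10473c9) (.node (nat_lit 0x10473c5) (.leaf (nat_lit 0x10473c1) (nat_lit 769))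
 (.leaf (nat_lit 0x10473c5) (nat_lit 1025))
) (.node (nat_lit 0x10473cd) (.leaf (nat_lit 0x10473c9) (nat_lit 1281))
 (.leaf (nat_lit 0x10473cd) (nat_lit 1025))
)) (.node (nat_lit 0x10473d9) (.node (nat_lit 0x10473d5) (.leaf (nat_lit 0x10473d1) (nat_lit 1281))
 (.leaf (nat_lit 0x10473d5) (nat_lit 1025))
) (.node (nat_lit 0x10473dd) (.leaf (nat_lit 0x10473d9) (nat_lit 1281))
 (.leaf (nat_lit 0x10473dd) (nat_lit 1025))
))))))))

theorem P8_ok : genOK A [(nat_lit 0x1041045), (nat_lit 0x10410c1), (nat_lit 0x1043041), (nat_lit 0x1045041)] P8_t (nat_lit 256) = true := by decide +kernel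

noncomputable def A0_t : ST :=
(.node (nat_lit 0x10410c1) (.node (nat_lit 0x1041045) (.leaf (nat_lit 0x1041041) (nat_lit 0))
 (.leaf (nat_lit 0x1041045) (nat_lit 256))
) (.node (nat_lit 0x10410c5) (.leaf (nat_lit 0x10410c1) (nat_lit 257))
 (.leaf (nat_lit 0x10410c5) (nat_lit 513))
))

theorem A0_ok : genOK A [(nat_lit 0x1041045), (nat_lit 0x10410c1)] A0_t (nat_lit 4) = true := by decide +kernel

noncomputable def B0_t : ST :=
(.node (nat_lit 0x1045041) (.node (nat_lit 0x1043041) (.leaf (nat_lit 0x1041041) (nat_lit 0))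
 (.leaf (nat_lit 0x1043041) (nat_lit 257))
) (.node (nat_lit 0x1047041) (.leaf (nat_lit 0x1045041) (nat_lit 256))
 (.leaf (nat_lit 0x1047041) (nat_lit 513))
))

theorem B0_ok : genOK A [(nat_lit 0x1045041), (nat_lit 0x1043041)] B0_t (nat_lit 4) = true := by decide +kernel

end Cfsg.Agent.HeS
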