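import Mathlib
import Cfsg.Agent.HeS.Data

/-!
A standard subgroup `L = 2².L₃(4)`: letters for a Sylow 2-subgroup `P` of `L` (a subgroup of the unitriangular group
`UT₅(2)`, `xij` standing for the elementary matrix, `z` for `x15`), and the data handed from the analysis of the
standard subgroup to the construction of the Sylow 2-subgroup of `G`.
-/

set_option autoImplicit false
set_option maxRecDepth 100000
set_option synthInstance.maxSize 100000
set_option synthInstance.maxHeartbeats 1000000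

namespace Cfsg.Agent.HeS

open Cfsg.Agent.Spor Cfsg.Agent.Rec Cfsg.Agent.Rec.L52 Cfsg.Agent.Inv.Fz Cfsg.Agent.UT Subgroup

universe u

variable {G : Type u} [Group G]

/-- The codes of the eight letters. -/
noncomputable def c8 : List ℕ := cH.take 8

theorem rel8_ok : allL rel8 (fun w => Nat.beq (evC A c8 w) A.one) = true := by decide +kernel

theorem clos_eight {C : Cod A G} {x13 x14 z x23 x24 x25 x34 x35 : G}
    (h : C.RepL c8 [x13, x14, z, x23, x24, x25, x34, x35]) :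
    clos [x13, x14, z, x23, x24, x25, x34, x35] = clos [x13, x23, x34, x35] ∧
      Nat.card (clos [x13, x23, x34, x35]) = 256 := by
  have h0 : C.Lists P8_t.dom (clos [x13, x23, x34, x35]) ∧ Nat.card (clos [x13, x23, x34, x35]) = 256 :=
    (h.pick [0, 3, 6, 7]).gen P8_ok
  have h1 : ∀ y ∈ {y | y ∈ [x13, x14, z, x23, x24, x25, x34, x35]}, y ∈ clos [x13, x23, x34, x35] :=
    (h.lists.cons (h0.1.cons Cod.listsL_nil)).decide h (by decide +kernel)
  exact ⟨le_antisymm (clos_le.2 h1) (clos_le.2 fun x hx => mem_clos (by simp at hx ⊢; tauto)), h0.2⟩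

/-- Elements satisfying the relators and generating a group of order at least 256 carry the codes. -/
theorem cod8 {e : List G} (hl : e.length = 8) (hs : Sat rel8 e) (hN : 256 ≤ Nat.card (clos e)) :
    ∃ C : Cod A G, C.RepL c8 e := by
  obtain ⟨_, _, _, _, _, _, _, _, _, _, _, _, h⟩ := exists_rep0
  have h1 : B5.C.RepL c8 [_, _, _, _, _, _, _, _] := h.take 8
  exact pres8.cod_of_card h1 (h1.sat rel8_ok) rfl ((clos_eight h1).1 ▸ (clos_eight h1).2) (by norm_num) hs hl hN

/-- The letters of the group `P` of order 256. -/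
structure Let (G : Type u) [Group G] where
  (x13 x14 z x23 x24 x25 x34 x35 : G)
  C : Cod A G
  rep : C.RepL c8 [x13, x14, z, x23, x24, x25, x34, x35]

namespace Let

variable (t : Let G)

/-- The letters. -/
abbrev e : List G := [t.x13, t.x14, t.z, t.x23, t.x24, t.x25, t.x34, t.x35]
/-- The group of order 256. -/
def P : Subgroup G := clos [t.x13, t.x23, t.x34, t.x35]
/-- The first elementary abelian subgroup of order 64. -/
def E1 : Subgroup G := clos [t.x13, t.x14, t.z, t.x23, t.x24, t.x25]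
/-- The second elementary abelian subgroup of order 64. -/
def E2 : Subgroup G := clos [t.x35, t.x25, t.z, t.x34, t.x24, t.x14]
/-- The centre of `P`. -/
def Z : Subgroup G := clos [t.x14, t.z, t.x24, t.x25]
/-- The plane of invertible matrices that is the centre of `L`. -/
def V : Subgroup G := clos [t.x14 * t.x25, t.x14 * t.z * t.x24]
/-- The other plane of invertible matrices. -/
def W : Subgroup G := clos [t.z * t.x24, t.x14 * t.z * t.x25]
/-- A complement to `Z` in `E1`. -/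
def A0 : Subgroup G := clos [t.x13, t.x23]
/-- A complement to `Z` in `E2`. -/
def B0 : Subgroup G := clos [t.x35, t.x34]

theorem genP : t.C.Lists P8_t.dom t.P ∧ Nat.card t.P = 256 := (t.rep.pick [0, 3, 6, 7]).gen P8_ok
theorem genE1 : t.C.Lists R1_t.dom t.E1 ∧ Nat.card t.E1 = 64 := (t.rep.pick [0, 1, 2, 3, 4, 5]).gen R1_ok
theorem genE2 : t.C.Lists R2_t.dom t.E2 ∧ Nat.card t.E2 = 64 := (t.rep.pick [7, 5, 2, 6, 4, 1]).gen R2_ok
theorem genZ : t.C.Lists E_t.dom t.Z ∧ Nat.card t.Z = 16 := (t.rep.pick [1, 2, 4, 5]).gen E_ok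
theorem genV : t.C.Lists DA_t.dom t.V ∧ Nat.card t.V = 4 :=
  ((t.rep.term _ (by decide +kernel)).cons <| (t.rep.term _ (by decide +kernel)).cons Cod.repL_nil).gen DA_ok
theorem genW : t.C.Lists DB_t.dom t.W ∧ Nat.card t.W = 4 :=
  ((t.rep.term _ (by decide +kernel)).cons <| (t.rep.term _ (by decide +kernel)).cons Cod.repL_nil).gen DB_ok
theorem genA0 : t.C.Lists A0_t.dom t.A0 ∧ Nat.card t.A0 = 4 := (t.rep.pick [0, 3]).gen A0_ok
theorem genB0 : t.C.Lists B0_t.dom t.B0 ∧ Nat.card t.B0 = 4 := (t.rep.pick [7, 6]).gen B0_ok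

/-- The listed sets; use `t.lists.decide t.rep (by decide +kernel)`. -/
theorem lists : t.C.ListsL
    [P8_t.dom, R1_t.dom, R2_t.dom, E_t.dom, DA_t.dom, DB_t.dom, A0_t.dom, B0_t.dom]
    [t.P, t.E1, t.E2, t.Z, t.V, t.W, t.A0, t.B0] :=
  t.genP.1.cons <| t.genE1.1.cons <| t.genE2.1.cons <| t.genZ.1.cons <| t.genV.1.cons <| t.genW.1.cons <|
    t.genA0.1.cons <| t.genB0.1.cons Cod.listsL_nil

theorem clos_e : clos t.e = t.P := (clos_eight t.rep).1

end Let

/-- What the analysis of the standard subgroup `L` yields.  `h` is a torus element and `w1`, `w2` are the Weyl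
involutions of `L`; in the matrix picture `h = diag(ω, 1, ω)` with `ω = [[1, 1], [1, 0]]`. -/
structure Int (G : Type u) [Group G] extends Let G where
  (h w1 w2 : G)
  L : Subgroup G
  card_L : Nat.card L = 80640
  P_le : toLet.P ≤ L
  h_mem : h ∈ L
  w1_mem : w1 ∈ L
  w2_mem : w2 ∈ L
  /-- `V` is the centre of `L`. -/
  cenV : ∀ c, c ∈ toLet.V ↔ c ∈ L ∧ ∀ l ∈ L, c * l = l * c
  h3 : h ^ 3 = 1
  h13 : h * x13 * h⁻¹ = x13 * x23
  h23 : h * x23 * h⁻¹ = x13
  h34 : h * x34 * h⁻¹ = x35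
  h35 : h * x35 * h⁻¹ = x34 * x35
  w1_sq : w1 * w1 = 1
  w1_13 : w1 * x13 * w1⁻¹ = x14 * z * x25
  w1_23 : w1 * x23 * w1⁻¹ = z * x24
  w1_35 : (w1 * x35) ^ 3 = 1
  w2_sq : w2 * w2 = 1
  w2_35 : w2 * x35 * w2⁻¹ = x14 * z * x25
  w2_34 : w2 * x34 * w2⁻¹ = z * x24
  w2_13 : (w2 * x13) ^ 3 = 1
  /-- Tight embedding. -/
  ti : ∀ x, ∀ v ∈ toLet.V, v ≠ 1 → x * v * x⁻¹ ∈ toLet.V → x ∈ normalizer (L : Set G)
  /-- A conjugate of an element of `V` that centralises `V` lies in `L`. -/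
  inn : ∀ x, ∀ v ∈ toLet.V, (∀ y ∈ toLet.V, x * v * x⁻¹ * y = y * (x * v * x⁻¹)) → x * v * x⁻¹ ∈ L
  /-- A conjugate of `V` meeting `Z` belongs to a conjugate of `L` containing `P`. -/
  key : ∀ x, ∀ v ∈ toLet.V, v ≠ 1 → x * v * x⁻¹ ∈ toLet.Z → toLet.P ≤ cj x L
  /-- There is such a conjugate other than `V`. -/
  ex : ∃ x, ∃ v ∈ toLet.V, x * v * x⁻¹ ∈ toLet.Z ∧ x * v * x⁻¹ ∉ toLet.V
  /-- `C(Z) = P × O` with `O` of odd order. -/
  cenZ : ∀ c, (∀ y ∈ toLet.Z, c * y = y * c) →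
    ∃ p ∈ toLet.P, ∃ o, Odd (orderOf o) ∧ (∀ y ∈ toLet.P, o * y = y * o) ∧ c = p * o

end Cfsg.Agent.HeS
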